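import Cfsg.Agent.OddOrder.AppA.Stability
import Cfsg.Agent.PLocal.PSolvable

/-!
# Abelian subgroups normalised by a normal `p`-subgroup in a group of odd order (BG A.4, 4.15)
-/

set_option autoImplicit false
open scoped commutatorElement

namespace CfsgLib.OddOrder.Quad

open Cfsg Subgroup

variable {G : Type*} [Group G]

/-- An element of an abelian subgroup normalised by `P` acts quadratically on `P`. -/
theorem commute_commutator_of_abelian {B P : Subgroup G} (hB : IsMulCommutative B)
    (hPB : P ≤ normalizer (B : Set G)) {b w : G} (hb : b ∈ B) (hw : w ∈ P) :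
    Commute ⁅w, b⁆ b := by
  have h1 : ⁅w, b⁆ ∈ B := by
    rw [commutatorElement_def]
    exact mul_mem ((mem_normalizer_iff.1 (hPB hw) b).1 hb) (inv_mem hb)
  exact congrArg Subtype.val (hB.is_comm.comm ⟨_, h1⟩ ⟨b, hb⟩)

variable [Finite G] {p : ℕ} [Fact p.Prime]

/-- When `O_{p'}(G) = 1` and `O_p(G) ∩ C(P) ≤ P`, the centralizer of `P` is a `p`-group. -/
theorem isPGroup_centralizer [Group.IsSolvable G] {P : Subgroup G} [P.Normal] (hP : IsPGroup p P)
    (hO : pPrimeCore p G = ⊥) (hle : pCore p G ⊓ centralizer (P : Set G) ≤ P) :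
    IsPGroup p (centralizer (P : Set G)) := by
  set C := centralizer (P : Set G) with hC
  have hOC : pPrimeCore p C = ⊥ := by
    have h := PLocal.pPrimeCore_map_subtype_le (p := p) C
    rw [hO, le_bot_iff, map_eq_bot_iff_of_injective _ C.subtype_injective] at h
    exact h
  have h1 : centralizer (pCore p C : Set C) = ⊤ := by
    refine eq_top_iff.2 fun c _ => mem_centralizer_iff.2 fun z hz => Subtype.ext ?_
    have hz' : (z : G) ∈ pCore p G ⊓ C :=
      mem_inf.2 ⟨PLocal.pCore_map_subtype_le C (mem_map_of_mem C.subtype hz), z.2⟩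
    exact mem_centralizer_iff.1 c.2 (z : G) (hle hz')
  have h2 := PLocal.centralizer_pCore_le (p := p)
    (PLocal.isPSolvable_of_isSolvable (G := C)) hOC
  rw [h1, top_le_iff] at h2
  have := PLocal.isPGroup_pCore p C
  rw [h2] at this
  exact this.of_equiv topEquiv

/-- An abelian subgroup of a Sylow `p`-subgroup, normal in it, lies in `O_p(G)` when
`O_{p'}(G) = 1` (odd order, solvable). -/
theorem le_pCore_of_abelian_normal_sylow [Group.IsSolvable G] (hp2 : p ≠ 2)
    (hodd : Odd (Nat.card G)) (hO : pPrimeCore p G = ⊥) (S : Sylow p G) {A : Subgroup G}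
    (hAc : IsMulCommutative A) (hAn : (S : Subgroup G) ≤ normalizer (A : Set G)) :
    A ≤ pCore p G := fun a ha => by
  have hC : IsPGroup p (centralizer (pCore p G : Set G)) :=
    (PLocal.isPGroup_pCore p G).to_le (PLocal.centralizer_pCore_le PLocal.isPSolvable_of_isSolvable hO)
  refine mem_pCore_of_map_mem hC (quadratic_mem_pCore_of_normal hp2 (PLocal.isPGroup_pCore p G)
    hodd fun w hw => ?_)
  exact commute_commutator_of_abelian hAc ((PLocal.pCore_le_sylow S).trans hAn) ha hw

end CfsgLib.OddOrder.Quad
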