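import Mathlib.GroupTheory.Transfer
import Mathlib.GroupTheory.PGroup
import Mathlib.GroupTheory.Sylow
import Mathlib.LinearAlgebra.Matrix.GeneralLinearGroup.Defs
import Mathlib.LinearAlgebra.Matrix.Notation
import Mathlib.Algebra.CharP.Lemmas
import Mathlib.LinearAlgebra.Matrix.Charpoly.Basic
import Mathlib.RingTheory.MatrixAlgebra
import Mathlib.Tactic.LinearCombination
import Mathlib.Tactic.FieldSimp
import Mathlib.Tactic.Module
import Mathlib.LinearAlgebra.Span.Basic
import Mathlib.LinearAlgebra.Matrix.CharP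

/-!
# Finite subgroups of odd order of `GL(2, F)` with order divisible by the characteristic

Such a group leaves a line invariant.  The proof needs no solvability: in the part of determinant
one the centralizer of a non-identity `p'`-element is abelian and self-normalizing, so Burnside's
transfer theorem gives a normal complement for every prime other than `p`.
-/

set_option autoImplicit false

namespace CfsgLib.OddOrder.GL2

open Matrix

variable {F : Type*} [Field F]


theorem sq_eq (M : (Matrix (Fin 2) (Fin 2) F)) : M * M = M.trace • M - M.det • 1 := by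
  ext i j
  fin_cases i <;> fin_cases j <;>
    simp [Matrix.mul_apply, Fin.sum_univ_two, Matrix.trace, Matrix.diag, Matrix.det_fin_two] <;> ring

theorem exists_affine_of_commute {z g : (Matrix (Fin 2) (Fin 2) F)} (hz : ∀ c : F, z ≠ c • 1) (h : g * z = z * g) :
    ∃ a b : F, g = a • 1 + b • z := by
  have h00 := congrFun (congrFun h 0) 0
  have h01 := congrFun (congrFun h 0) 1
  have h10 := congrFun (congrFun h 1) 0
  simp only [Matrix.mul_apply, Fin.sum_univ_two] at h00 h01 h10
  by_cases hb : z 0 1 = 0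
  · by_cases hc : z 1 0 = 0
    · have had : z 0 0 ≠ z 1 1 := fun e => hz (z 0 0) (by
        ext i j; fin_cases i <;> fin_cases j <;> simp [hb, hc, e])
      have hd : z 0 0 - z 1 1 ≠ 0 := sub_ne_zero.2 had
      have g01 : g 0 1 = 0 := by
        refine (mul_eq_zero.1 (?_ : g 0 1 * (z 0 0 - z 1 1) = 0)).resolve_right hd
        rw [hb] at h01; linear_combination -h01
      have g10 : g 1 0 = 0 := by
        refine (mul_eq_zero.1 (?_ : g 1 0 * (z 0 0 - z 1 1) = 0)).resolve_right hd
        rw [hc] at h10; linear_combination h10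
      refine ⟨g 0 0 - (g 0 0 - g 1 1) / (z 0 0 - z 1 1) * z 0 0,
        (g 0 0 - g 1 1) / (z 0 0 - z 1 1), ?_⟩
      ext i j; fin_cases i <;> fin_cases j
      · simp
      · simp [g01, hb]
      · simp [g10, hc]
      · simp
        field_simp
        ring
    · refine ⟨g 0 0 - g 1 0 / z 1 0 * z 0 0, g 1 0 / z 1 0, ?_⟩
      rw [hb] at h00 h01
      ext i j; fin_cases i <;> fin_cases j
      · simp
      · simp [hb]
        refine (mul_eq_zero.1 (?_ : g 0 1 * z 1 0 = 0)).resolve_right hc
        linear_combination h00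
      · simp [hc]
      · simp
        field_simp
        linear_combination h10
  · refine ⟨g 0 0 - g 0 1 / z 0 1 * z 0 0, g 0 1 / z 0 1, ?_⟩
    ext i j; fin_cases i <;> fin_cases j
    · simp
    · simp [hb]
    · simp
      field_simp
      linear_combination -h00
    · simp
      field_simp
      linear_combination -h01

theorem commute_affine {z : (Matrix (Fin 2) (Fin 2) F)} (a b c d : F) :
    (a • 1 + b • z) * (c • 1 + d • z) = (c • 1 + d • z) * (a • 1 + b • z) := by
  simp only [mul_add, add_mul, smul_mul_smul_comm, one_mul, mul_one]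
  rw [mul_comm a c, mul_comm b d, mul_comm a d, mul_comm b c]
  abel

/-- Two nonzero vectors killed by the same nonzero matrix are proportional. -/
theorem mem_span_of_mulVec_eq_zero {N : (Matrix (Fin 2) (Fin 2) F)} (hN : N ≠ 0) {v w : Fin 2 → F} (hv : v ≠ 0)
    (h1 : N *ᵥ v = 0) (h2 : N *ᵥ w = 0) : w ∈ Submodule.span F {v} := by
  have hd : v 0 * w 1 - v 1 * w 0 = 0 := by
    by_contra hd
    refine hN ?_
    ext i j
    have e1 := congrFun h1 i
    have e2 := congrFun h2 i
    simp only [Matrix.mulVec, dotProduct, Fin.sum_univ_two, Pi.zero_apply] at e1 e2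
    have k0 : N i 0 * (v 0 * w 1 - v 1 * w 0) = 0 := by linear_combination w 1 * e1 - v 1 * e2
    have k1 : N i 1 * (v 0 * w 1 - v 1 * w 0) = 0 := by linear_combination v 0 * e2 - w 0 * e1
    fin_cases j
    · exact (mul_eq_zero.1 k0).resolve_right hd
    · exact (mul_eq_zero.1 k1).resolve_right hd
  rw [Submodule.mem_span_singleton]
  by_cases h0 : v 0 = 0
  · have h1' : v 1 ≠ 0 := fun h1' => hv (by ext i; fin_cases i <;> simp [h0, h1'])
    have hw0 : w 0 = 0 := by simpa [h0, h1'] using hd
    exact ⟨w 1 / v 1, by ext i; fin_cases i <;> simp [h0, hw0, h1']⟩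
  · refine ⟨w 0 / v 0, ?_⟩
    ext i; fin_cases i
    · simp [h0]
    · simp
      field_simp
      linear_combination -hd

section Group

variable {G : Type*} [Group G] [Finite G] (ρ : G →* (Matrix (Fin 2) (Fin 2) F)) (hinj : Function.Injective ρ)
variable {p : ℕ} [hp : Fact p.Prime] [CharP F p]

omit [Finite G] in
/-- For `z` non-scalar with `tr² ≠ 4` of determinant one in a group of odd order, a conjugate of
`z` commuting with `z` is `z`. -/
theorem commute_of_conj_commute {z g : G} (hodd : Odd (orderOf g)) (hzodd : Odd (orderOf z))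
    (hdet : (ρ z).det = 1) (hns : ∀ c : F, ρ z ≠ c • 1) (ht : (ρ z).trace ^ 2 ≠ 4)
    (h2 : (2 : F) ≠ 0) (hinj : Function.Injective ρ) (h : Commute (g * z * g⁻¹) z) :
    Commute g z := by
  have hw : ρ (g * z * g⁻¹) * ρ z = ρ z * ρ (g * z * g⁻¹) := by rw [← map_mul, ← map_mul, h.eq]
  obtain ⟨a, b, hab⟩ := exists_affine_of_commute hns hw
  have hgi : ρ g * ρ g⁻¹ = 1 := by rw [← map_mul, mul_inv_cancel, map_one]
  have hig : ρ g⁻¹ * ρ g = 1 := by rw [← map_mul, inv_mul_cancel, map_one]
  set t := (ρ z).trace with htdef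
  have hsq : ρ z * ρ z = t • ρ z - (1 : F) • 1 := by rw [sq_eq, hdet]
  have hbne : b ≠ 0 := by
    intro hb
    rw [hb, zero_smul, add_zero] at hab
    refine hns a ?_
    calc ρ z = ρ g⁻¹ * ρ (g * z * g⁻¹) * ρ g := by
          rw [← map_mul, ← map_mul]; congr 1; group
      _ = a • 1 := by rw [hab, mul_smul_comm, mul_one, smul_mul_assoc, hig]
  have hwq : ρ (g * z * g⁻¹) * ρ (g * z * g⁻¹) = t • ρ (g * z * g⁻¹) - (1 : F) • 1 := by
    rw [map_mul, map_mul]
    calc ρ g * ρ z * ρ g⁻¹ * (ρ g * ρ z * ρ g⁻¹)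
        = ρ g * ρ z * (ρ g⁻¹ * ρ g) * ρ z * ρ g⁻¹ := by simp only [mul_assoc]
      _ = ρ g * (ρ z * ρ z) * ρ g⁻¹ := by rw [hig]; simp only [mul_assoc, one_mul]
      _ = _ := by
          rw [hsq, mul_sub, sub_mul, mul_smul_comm, smul_mul_assoc, mul_smul_comm, mul_one,
            smul_mul_assoc, hgi, one_smul]
  rw [hab] at hwq
  have hexp : (a * a - b * b - t * a + 1) • (1 : (Matrix (Fin 2) (Fin 2) F)) + (b * (2 * a + b * t - t)) • ρ z = 0 := by
    have e : (a • (1 : (Matrix (Fin 2) (Fin 2) F)) + b • ρ z) * (a • 1 + b • ρ z)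
        = (a * a) • 1 + (2 * a * b) • ρ z + (b * b) • (ρ z * ρ z) := by
      simp only [mul_add, add_mul, smul_mul_smul_comm, one_mul, mul_one]
      rw [mul_comm b a, two_mul, add_mul, add_smul]
      abel
    rw [e, hsq] at hwq
    rw [← sub_eq_zero] at hwq
    rw [← hwq]
    module
  have hlin : a * a - b * b - t * a + 1 = 0 ∧ 2 * a + b * t - t = 0 := by
    by_cases hB : b * (2 * a + b * t - t) = 0
    · rw [hB, zero_smul, add_zero] at hexp
      refine ⟨?_, (mul_eq_zero.1 hB).resolve_left hbne⟩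
      have := congrFun (congrFun hexp 0) 0
      simpa using this
    · exfalso
      refine hns (-(a * a - b * b - t * a + 1) / (b * (2 * a + b * t - t))) ?_
      have h1 := eq_neg_of_add_eq_zero_right hexp
      rw [div_eq_inv_mul, mul_smul, neg_smul, ← h1, inv_smul_smul₀ hB]
  have hb1 : (b - 1) * (b + 1) * (t ^ 2 - 4) = 0 := by
    linear_combination (4 : F) * hlin.1 - (2 * a - t * (1 + b)) * hlin.2
  have hg2 : g * z * g⁻¹ = z ∨ g * z * g⁻¹ = z⁻¹ := by
    rcases mul_eq_zero.1 hb1 with h3 | h3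
    · rcases mul_eq_zero.1 h3 with h4 | h4
      · left
        apply hinj
        have hb' : b = 1 := sub_eq_zero.1 h4
        have ha : a = 0 := by
          have := hlin.2
          rw [hb'] at this
          exact (mul_eq_zero.1 (by linear_combination this : (2 : F) * a = 0)).resolve_left h2
        rw [hab, ha, hb']; simp
      · right
        apply hinj
        have hb' : b = -1 := eq_neg_of_add_eq_zero_left h4
        have ha : a = t := by
          have := hlin.2
          rw [hb'] at this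
          exact sub_eq_zero.1 ((mul_eq_zero.1
            (by linear_combination this : (2 : F) * (a - t) = 0)).resolve_left h2)
        have hzz : ρ z * ρ (g * z * g⁻¹) = 1 := by
          rw [hab, ha, hb', mul_add, mul_smul_comm, mul_one, mul_smul_comm, hsq]
          module
        calc ρ (g * z * g⁻¹) = ρ z⁻¹ * (ρ z * ρ (g * z * g⁻¹)) := by
              rw [← mul_assoc, ← map_mul, inv_mul_cancel, map_one, one_mul]
          _ = ρ z⁻¹ := by rw [hzz, mul_one]
    · exact absurd (sub_eq_zero.1 h3) ht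
  rcases hg2 with hz | hz
  · exact mul_inv_eq_iff_eq_mul.1 hz
  · have hsq' : Commute (g ^ 2) z := by
      show g ^ 2 * z = z * g ^ 2
      have h1 : g ^ 2 * z * (g ^ 2)⁻¹ = g * (g * z * g⁻¹) * g⁻¹ := by rw [pow_two]; group
      rw [hz, show g * z⁻¹ * g⁻¹ = (g * z * g⁻¹)⁻¹ by group, hz, inv_inv] at h1
      exact mul_inv_eq_iff_eq_mul.1 h1
    obtain ⟨k, hk⟩ := exists_pow_eq_self_of_coprime (n := 2)
      (Nat.coprime_two_left.2 hodd) (x := g)
    exact hk ▸ hsq'.pow_left k

include hinj in
/-- Odd order, determinant one, in characteristic `p`: a normal Sylow `p`-subgroup. -/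
theorem sylow_normal (hp2 : p ≠ 2) (hodd : Odd (Nat.card G)) (hdet : ∀ g, (ρ g).det = 1)
    (P : Sylow p G) : (P : Subgroup G).Normal := by
  have h2 : (2 : F) ≠ 0 := by
    intro h
    have h' : ((2 : ℕ) : F) = 0 := by simpa using h
    rw [CharP.cast_eq_zero_iff F p] at h'
    exact hp2 ((Nat.prime_dvd_prime_iff_eq hp.out Nat.prime_two).1 h')
  have hoddo : ∀ g : G, Odd (orderOf g) := fun g => hodd.of_dvd_nat (orderOf_dvd_natCard g)
  have hsq1 : ∀ g : G, g ^ 2 = 1 → g = 1 := by
    intro g hg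
    obtain ⟨k, hk⟩ := exists_pow_eq_self_of_coprime (n := 2)
      (Nat.coprime_two_left.2 (hoddo g)) (x := g)
    rw [hg, one_pow] at hk
    exact hk.symm
  -- for every prime other than `p` a normal complement containing `P`
  have hcompl : ∀ r : ℕ, r.Prime → r ≠ p → r ∣ Nat.card G →
      ∃ K : Subgroup G, K.Normal ∧ (P : Subgroup G) ≤ K ∧ ¬ r ∣ Nat.card K := by
    intro r hr hrp hrG
    haveI := Fact.mk hr
    let R : Sylow r G := default
    haveI : Nontrivial (R : Subgroup G) := (Subgroup.nontrivial_iff_ne_bot _).2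
      (R.ne_bot_of_dvd_card hrG)
    haveI := R.isPGroup'.center_nontrivial
    obtain ⟨⟨z, hzc⟩, hz1⟩ := exists_ne (1 : Subgroup.center (R : Subgroup G))
    have hz1' : (z : G) ≠ 1 := fun h => hz1 (Subtype.ext (Subtype.ext h))
    have hns : ∀ c : F, ρ z ≠ c • 1 := by
      intro c hc
      refine hz1' (hsq1 _ (hinj ?_))
      have hd := hdet z
      rw [hc, Matrix.det_smul, Matrix.det_one, mul_one, Fintype.card_fin] at hd
      rw [map_pow, hc, map_one, _root_.smul_pow, one_pow, hd, one_smul]
    have ht : (ρ (z : G)).trace ^ 2 ≠ 4 := by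
      intro ht
      set s := (ρ (z : G)).trace / 2
      have hs : s ^ 2 = 1 := by
        rw [div_pow, ht, div_eq_iff (pow_ne_zero 2 h2)]; norm_num
      have hn : (ρ (z : G) - s • 1) ^ 2 = 0 := by
        rw [sq, sub_mul, mul_sub, mul_sub, sq_eq, hdet]
        simp only [mul_smul_comm, smul_mul_assoc, one_mul, mul_one, smul_smul]
        rw [← sq, hs, show (ρ (z : G)).trace = s + s by simp only [s]; field_simp; ring]
        module
      have hpz : (ρ (z : G)) ^ p = (s ^ p) • 1 := by
        have hc : Commute (ρ (z : G) - s • 1) (s • 1) := (Commute.one_right _).smul_right s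
        have := add_pow_char_of_commute (p := p) hc
        rw [sub_add_cancel, _root_.smul_pow, one_pow,
          pow_eq_zero_of_le (hp.out.two_le) hn, zero_add] at this
        exact this
      have h2p : (z : G) ^ (2 * p) = 1 := by
        apply hinj
        rw [map_pow, map_one, mul_comm, pow_mul, hpz, _root_.smul_pow, one_pow, ← pow_mul,
          mul_comm, pow_mul, hs, one_pow, one_smul]
      have hcop : (2 * p).Coprime (orderOf (z : G)) := by
        refine Nat.Coprime.mul_left (Nat.coprime_two_left.2 (hoddo _)) ?_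
        obtain ⟨k, hk⟩ := IsPGroup.iff_card.1 R.isPGroup'
        have hd : orderOf (z : G) ∣ r ^ k := by
          rw [← hk]; exact Subgroup.orderOf_dvd_natCard _ z.2
        exact (((Nat.coprime_primes hp.out hr).2 (Ne.symm hrp)).pow_right k).coprime_dvd_right hd
      obtain ⟨k, hk⟩ := exists_pow_eq_self_of_coprime hcop (x := (z : G))
      rw [h2p, one_pow] at hk
      exact hz1' hk.symm
    have hNC : Subgroup.normalizer ((R : Subgroup G) : Set G) ≤ Subgroup.centralizer (R : Set G) := by
      intro g hg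
      rw [Subgroup.mem_centralizer_iff]
      have hgz : Commute g z := by
        refine commute_of_conj_commute ρ (hoddo g) (hoddo _) (hdet _) hns ht h2 hinj ?_
        have h1 : g * z * g⁻¹ ∈ (R : Subgroup G) := (Subgroup.mem_normalizer_iff.1 hg _).1 z.2
        exact congrArg Subtype.val (Subgroup.mem_center_iff.1 hzc ⟨_, h1⟩)
      intro x hx
      have hxz : Commute x z := congrArg Subtype.val (Subgroup.mem_center_iff.1 hzc ⟨x, hx⟩)
      obtain ⟨a, b, hx'⟩ := exists_affine_of_commute hns (g := ρ x)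
        (by rw [← map_mul, ← map_mul, hxz.eq])
      obtain ⟨c, d, hg'⟩ := exists_affine_of_commute hns (g := ρ g)
        (by rw [← map_mul, ← map_mul, hgz.eq])
      apply hinj
      rw [map_mul, map_mul, hx', hg', commute_affine]
    refine ⟨(MonoidHom.transferSylow R hNC).ker, inferInstance, ?_, ?_⟩
    · have hd := MonoidHom.not_dvd_card_ker_transferSylow R hNC
      intro x hx
      set K := (MonoidHom.transferSylow R hNC).ker
      have hcK := MonoidHom.ker_transferSylow_isComplement' R hNC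
      obtain ⟨k, hk⟩ := IsPGroup.iff_card.1 R.isPGroup'
      obtain ⟨m, hm⟩ := P.isPGroup' ⟨x, hx⟩
      have o1 : orderOf (x : G ⧸ K) ∣ p ^ m := by
        rw [orderOf_dvd_iff_pow_eq_one, ← QuotientGroup.mk_pow,
          (by simpa using congrArg Subtype.val hm : x ^ p ^ m = 1), QuotientGroup.mk_one]
      have o2 : orderOf (x : G ⧸ K) ∣ r ^ k := by
        rw [← hk, ← hcK.symm.index_eq_card, Subgroup.index_eq_card]
        exact orderOf_dvd_natCard _
      exact (QuotientGroup.eq_one_iff x).1 (orderOf_eq_one_iff.1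
        (Nat.eq_one_of_dvd_coprimes (Nat.Coprime.pow m k ((Nat.coprime_primes hp.out hr).2 (Ne.symm hrp))) o1 o2))
    · exact MonoidHom.not_dvd_card_ker_transferSylow R hNC
  -- the intersection of these complements is `P`
  let S : Set (Subgroup G) := {K | K.Normal ∧ (P : Subgroup G) ≤ K}
  have hSn : (sInf S).Normal := by
    refine ⟨fun x hx g => ?_⟩
    rw [Subgroup.mem_sInf] at hx ⊢
    exact fun K hK => hK.1.conj_mem x (hx K hK) g
  have hPS : (P : Subgroup G) ≤ sInf S := le_sInf fun K hK => hK.2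
  have hSp : IsPGroup p ↥(sInf S) := by
    refine IsPGroup.of_card (n := (Nat.card ↥(sInf S)).primeFactorsList.length)
      (Nat.eq_prime_pow_of_unique_prime_dvd Nat.card_pos.ne' fun {r} hr hrd => ?_)
    by_contra hrp
    obtain ⟨K, hKn, hPK, hK⟩ := hcompl r hr hrp (hrd.trans (Subgroup.card_subgroup_dvd_card _))
    exact hK (hrd.trans (Subgroup.card_dvd_of_le (sInf_le (show K ∈ S from ⟨hKn, hPK⟩))))
  exact P.3 hSp hPS ▸ hSn

end Group

section Main

variable {p : ℕ} [hp : Fact p.Prime] [CharP F p]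

/-- **BG 2.6(a) without solvability**: a finite subgroup of odd order of `GL(2, F)` whose order is
divisible by the odd characteristic of `F` fixes a line. -/
theorem exists_invariant_line (hp2 : p ≠ 2) (H : Subgroup (GL (Fin 2) F)) [Finite H]
    (hodd : Odd (Nat.card H)) (hdvd : p ∣ Nat.card H) :
    ∃ v : Fin 2 → F, v ≠ 0 ∧ ∀ g ∈ H, (g : (Matrix (Fin 2) (Fin 2) F)) *ᵥ v ∈ Submodule.span F {v} := by
  classical
  let ρ : H →* (Matrix (Fin 2) (Fin 2) F) := (Units.coeHom (Matrix (Fin 2) (Fin 2) F)).comp H.subtype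
  have hρ : Function.Injective ρ := Units.val_injective.comp Subtype.val_injective
  let d : H →* F := Matrix.detMonoidHom.comp ρ
  set H₁ : Subgroup H := d.ker with hH₁
  have hdet1 : ∀ g : H₁, (ρ g).det = 1 := fun g => g.2
  have hpdet : ∀ g : H, ∀ k : ℕ, g ^ p ^ k = 1 → g ∈ H₁ := by
    intro g k hk
    rw [hH₁, MonoidHom.mem_ker]
    have h1 : d g ^ p ^ k = 1 := by rw [← map_pow, hk, map_one]
    refine sub_eq_zero.1 (pow_eq_zero_iff (pow_ne_zero k hp.out.ne_zero) |>.1 ?_)
    rw [sub_pow_char_pow, one_pow, h1, sub_self]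
  obtain ⟨x, hx⟩ := exists_prime_orderOf_dvd_card' p hdvd
  have hxp : x ^ p = 1 := hx ▸ pow_orderOf_eq_one x
  have hxH : x ∈ H₁ := hpdet x 1 (by rwa [pow_one])
  let x₁ : H₁ := ⟨x, hxH⟩
  have hx₁p : IsPGroup p (Subgroup.zpowers x₁) := IsPGroup.of_card (n := 1) (by
    rw [Nat.card_zpowers, pow_one, ← hx]; exact Subgroup.orderOf_mk x hxH)
  obtain ⟨P, hP⟩ := hx₁p.exists_le_sylow
  haveI hPn : (P : Subgroup H₁).Normal := sylow_normal (ρ.comp H₁.subtype)
    (hρ.comp Subtype.val_injective) hp2 (hodd.of_dvd_nat (Subgroup.card_subgroup_dvd_card H₁))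
    hdet1 P
  haveI : Nontrivial (P : Subgroup H₁) := (Subgroup.nontrivial_iff_ne_bot _).2 fun h => by
    have h1 : x₁ ∈ (P : Subgroup H₁) := hP (Subgroup.mem_zpowers x₁)
    rw [h, Subgroup.mem_bot] at h1
    rw [show x = 1 from congrArg Subtype.val h1, orderOf_one] at hx
    exact hp.out.one_lt.ne hx
  haveI := P.isPGroup'.center_nontrivial
  obtain ⟨⟨u, huc⟩, hu1⟩ := exists_ne (1 : Subgroup.center (P : Subgroup H₁))
  set uH : H := ((u : H₁) : H) with huH
  have huH1 : uH ≠ 1 := fun h => hu1 (Subtype.ext (Subtype.ext (Subtype.ext h)))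
  -- `u - 1` squares to zero
  obtain ⟨k, hk⟩ := P.isPGroup' u
  have hkH : uH ^ p ^ k = 1 := congrArg (fun y : (P : Subgroup H₁) => ((y : H₁) : H)) hk
  have hnil : ∀ w : H, w ^ p ^ k = 1 → (ρ w - 1) ^ p ^ k = 0 := by
    intro w hw
    rw [sub_pow_char_pow_of_commute _ _ (Commute.one_right _), one_pow, ← map_pow, hw, map_one,
      sub_self]
  set N := ρ uH - 1 with hN
  have hN0 : N ≠ 0 := fun h => huH1 (hρ (by rw [sub_eq_zero.1 h, map_one]))
  have hNdet : N.det = 0 := by
    have h1 := congrArg Matrix.det (hnil uH hkH)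
    rw [Matrix.det_pow, Matrix.det_zero] at h1
    exact (pow_eq_zero_iff (pow_ne_zero k hp.out.ne_zero)).1 h1
  have hNN : N * N = N.trace • N := by rw [sq_eq, hNdet]; simp
  have htr : N.trace = 0 := by
    have hpow : ∀ m : ℕ, N ^ (m + 1) = N.trace ^ m • N := by
      intro m
      induction m with
      | zero => simp
      | succ m ih => rw [pow_succ, ih, smul_mul_assoc, hNN, smul_smul, ← pow_succ]
    have h1 := hnil uH hkH
    obtain ⟨m, hm⟩ := Nat.exists_eq_succ_of_ne_zero (pow_ne_zero k hp.out.ne_zero)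
    rw [hm, Nat.succ_eq_add_one, hpow, smul_eq_zero] at h1
    rcases Nat.eq_zero_or_pos m with hm0 | hm0
    · exact absurd (h1.resolve_left (by rw [hm0]; simp)) hN0
    · exact (pow_eq_zero_iff hm0.ne').1 (h1.resolve_right hN0)
  obtain ⟨j, hj⟩ : ∃ j, N *ᵥ Pi.single j 1 ≠ 0 := by
    by_contra h
    push_neg at h
    exact hN0 (Matrix.ext fun i j => by simpa using congrFun (h j) i)
  set v := N *ᵥ Pi.single j 1 with hv
  have hNv : N *ᵥ v = 0 := by rw [hv, Matrix.mulVec_mulVec, hNN, htr, zero_smul, Matrix.zero_mulVec]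
  refine ⟨v, hj, fun g hg => ?_⟩
  let gH : H := ⟨g, hg⟩
  -- the conjugate of `u` by `g` lies in `P`
  have hw : (gH⁻¹ * uH * gH) ^ p ^ k = 1 := by
    have h1 := conj_pow (i := p ^ k) (a := gH⁻¹) (b := uH)
    rw [inv_inv] at h1
    rw [h1, hkH]; simp
  have hw₁ : gH⁻¹ * uH * gH ∈ H₁ := hpdet _ k hw
  have hwP : (⟨_, hw₁⟩ : H₁) ∈ (P : Subgroup H₁) := by
    have hz : IsPGroup p (Subgroup.zpowers (⟨_, hw₁⟩ : H₁)) := by
      obtain ⟨i, -, hi⟩ := (Nat.dvd_prime_pow hp.out).1 (orderOf_dvd_of_pow_eq_one hw)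
      exact IsPGroup.of_card (n := i) (by rw [Nat.card_zpowers, Subgroup.orderOf_mk, hi])
    exact (le_sup_left.trans (P.is_maximal' (hz.to_sup_of_normal_right P.isPGroup') le_sup_right).le)
      (Subgroup.mem_zpowers _)
  have hcomm : Commute (gH⁻¹ * uH * gH) uH :=
    congrArg (fun y : (P : Subgroup H₁) => ((y : H₁) : H)) (Subgroup.mem_center_iff.1 huc ⟨_, hwP⟩)
  set N' := ρ (gH⁻¹ * uH * gH) - 1 with hN'
  have hNns : ∀ c : F, N ≠ c • 1 := by
    intro c hc
    rw [hc, Matrix.det_smul, Matrix.det_one, mul_one] at hNdet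
    exact hN0 (by rw [hc, (pow_eq_zero_iff (by simp)).1 hNdet, zero_smul])
  obtain ⟨a, b, hab⟩ := exists_affine_of_commute hNns (g := N') (by
    rw [hN', hN]
    simp only [sub_mul, mul_sub, one_mul, mul_one]
    rw [← map_mul, ← map_mul, hcomm.eq]
    abel)
  have ha : a = 0 := by
    have h1 := congrArg Matrix.det (hnil _ hw)
    rw [Matrix.det_pow, Matrix.det_zero, ← hN', hab] at h1
    have h2 := (pow_eq_zero_iff (pow_ne_zero k hp.out.ne_zero)).1 h1
    have hNd := hNdet
    rw [Matrix.det_fin_two] at hNd h2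
    simp at h2
    have htr' : N 0 0 + N 1 1 = 0 := by simpa [Matrix.trace, Fin.sum_univ_two] using htr
    have h3 : a * a = 0 := by linear_combination h2 - b * b * hNd - a * b * htr'
    exact mul_self_eq_zero.1 h3
  rw [ha, zero_smul, zero_add] at hab
  have hkey : N *ᵥ ((g : (Matrix (Fin 2) (Fin 2) F)) *ᵥ v) = 0 := by
    have h1 : (g : (Matrix (Fin 2) (Fin 2) F)) * N' = N * (g : (Matrix (Fin 2) (Fin 2) F)) := by
      show ρ gH * N' = N * ρ gH
      rw [hN', hN, mul_sub, sub_mul, mul_one, one_mul, ← map_mul, ← map_mul]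
      congr 2
      group
    rw [Matrix.mulVec_mulVec, ← h1, hab, mul_smul_comm, Matrix.smul_mulVec, ← Matrix.mulVec_mulVec,
      hNv, Matrix.mulVec_zero, smul_zero]
  exact mem_span_of_mulVec_eq_zero hN0 hj hNv hkey

end Main

end CfsgLib.OddOrder.GL2
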