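import Cfsg.Agent.OddOrder.AppA.GL2
import Mathlib.Algebra.Algebra.Operations
import Mathlib.FieldTheory.IsAlgClosed.Basic
import Mathlib.LinearAlgebra.Matrix.Charpoly.Coeff
import Mathlib.LinearAlgebra.Matrix.Charpoly.Eigs
import Mathlib.LinearAlgebra.Matrix.ToLinearEquiv

/-!
# Two quadratic elements generating a linear group of odd order (Bender–Glauberman, Appendix A)

In characteristic `p ≠ 2`, a group of odd order generated by two elements `x`, `y` with
`(x - 1)² = 0` and `(y - 1)² = 0` is unipotent.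
-/

set_option autoImplicit false

namespace CfsgLib.OddOrder.Quad

open Matrix

variable {K : Type*} [Field K] {n : ℕ}

/-- Products of members of `{A, B}` when `A² = B² = 0` and `(AB)^m = 0`. -/
theorem list_prod_eq_zero {R : Type*} [Ring R] {A B : R} (hA : A * A = 0) (hB : B * B = 0) {m : ℕ}
    (hm : (A * B) ^ m = 0) :
    ∀ l : List R, (∀ z ∈ l, z = A ∨ z = B) → 2 * m + 2 ≤ l.length → l.prod = 0 := by
  suffices key : ∀ l : List R, (∀ z ∈ l, z = A ∨ z = B) → l.prod = 0 ∨
      ∃ (e : Bool) (k : ℕ) (f : Bool), l.prod = (if e then B else 1) * (A * B) ^ k * (if f then A else 1) ∧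
        l.length ≤ 2 * k + e.toNat + f.toNat by
    intro l hl hlen
    rcases key l hl with h | ⟨e, k, f, h, hk⟩
    · exact h
    · have he := e.toNat_le
      have hf := f.toNat_le
      rw [h, pow_eq_zero_of_le (show m ≤ k by omega) hm, mul_zero, zero_mul]
  intro l
  induction l with
  | nil => exact fun _ => Or.inr ⟨false, 0, false, by simp, by simp⟩
  | cons z l ih =>
    intro hl
    rcases ih fun w hw => hl w (List.mem_cons_of_mem z hw) with h | ⟨e, k, f, h, hk⟩
    · left; rw [List.prod_cons, h, mul_zero]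
    · rcases hl z List.mem_cons_self with rfl | rfl
      · cases e with
        | true =>
          refine Or.inr ⟨false, k + 1, f, ?_, ?_⟩
          · rw [List.prod_cons, h, pow_succ']
            simp [mul_assoc]
          · simp only [List.length_cons, Bool.toNat_true, Bool.toNat_false] at *; omega
        | false =>
          rcases k.eq_zero_or_pos with rfl | hk0
          · cases f with
            | true => left; rw [List.prod_cons, h]; simp [hA]
            | false =>
              refine Or.inr ⟨false, 0, true, ?_, ?_⟩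
              · rw [List.prod_cons, h]; simp
              · simp only [List.length_cons, Bool.toNat_true, Bool.toNat_false] at *; omega
          · left
            obtain ⟨j, rfl⟩ := Nat.exists_eq_succ_of_ne_zero hk0.ne'
            rw [List.prod_cons, h, pow_succ']
            simp [← mul_assoc, hA]
      · cases e with
        | true => left; rw [List.prod_cons, h]; simp [← mul_assoc, hB]
        | false =>
          refine Or.inr ⟨true, k, f, ?_, ?_⟩
          · rw [List.prod_cons, h]; simp [mul_assoc]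
          · simp only [List.length_cons, Bool.toNat_true, Bool.toNat_false] at *; omega

variable {H : Type*} [Group H] [Finite H] {p : ℕ} [hp : Fact p.Prime]

/-- `(x - 1)(y - 1)` is nilpotent. -/
theorem mul_isNilpotent [IsAlgClosed K] [CharP K p] (hp2 : p ≠ 2) (hodd : Odd (Nat.card H))
    (ρ : H →* Matrix (Fin n) (Fin n) K) {x y : H} (hgen : Subgroup.closure ({x, y} : Set H) = ⊤)
    (hx : (ρ x - 1) * (ρ x - 1) = 0) (hy : (ρ y - 1) * (ρ y - 1) = 0) :
    ((ρ x - 1) * (ρ y - 1)) ^ n = 0 := by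
  classical
  set A := ρ x - 1 with hA
  set B := ρ y - 1 with hB
  set M := A * B with hM
  suffices hroots : ∀ μ ∈ M.charpoly.roots, μ = 0 by
    have hsplit := IsAlgClosed.splits M.charpoly
    have h1 := hsplit.eq_prod_roots_of_monic M.charpoly_monic
    rw [Multiset.map_congr rfl (g := fun _ => (Polynomial.X : Polynomial K))
      (fun μ hμ => by rw [hroots μ hμ, map_zero, sub_zero]), Multiset.map_const',
      Multiset.prod_replicate] at h1
    have h2 : Multiset.card M.charpoly.roots = n := by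
      have h3 := congrArg Polynomial.natDegree h1
      rwa [M.charpoly_natDegree_eq_dim, Fintype.card_fin, Polynomial.natDegree_X_pow, eq_comm] at h3
    have h4 := M.aeval_self_charpoly
    rwa [h1, h2, map_pow, Polynomial.aeval_X] at h4
  intro μ hμ
  by_contra hμ0
  obtain ⟨v, hv0, hv⟩ : ∃ v : Fin n → K, v ≠ 0 ∧ M *ᵥ v = μ • v := by
    rw [Polynomial.mem_roots M.charpoly_monic.ne_zero, Polynomial.IsRoot.def,
      Matrix.eval_charpoly] at hμ
    obtain ⟨v, hv0, hv⟩ := Matrix.exists_mulVec_eq_zero_iff.2 hμ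
    refine ⟨v, hv0, ?_⟩
    rw [Matrix.sub_mulVec, sub_eq_zero] at hv
    rw [← hv]
    simp
  set w := B *ᵥ v with hw
  have hAw : A *ᵥ w = μ • v := by rw [hw, Matrix.mulVec_mulVec, ← hM, hv]
  have hAv : A *ᵥ v = 0 := by
    have h1 : A *ᵥ (A *ᵥ w) = 0 := by rw [Matrix.mulVec_mulVec, hx, Matrix.zero_mulVec]
    rw [hAw, Matrix.mulVec_smul] at h1
    exact (smul_eq_zero.1 h1).resolve_left hμ0
  have hBw : B *ᵥ w = 0 := by rw [hw, Matrix.mulVec_mulVec, hy, Matrix.zero_mulVec]
  -- the plane spanned by `v`, `w`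
  let L : Matrix (Fin n) (Fin 2) K := Matrix.of fun i j => ![v i, w i] j
  have hLv : ∀ c : Fin 2 → K, L *ᵥ c = c 0 • v + c 1 • w := fun c => by
    ext i; simp [L, Matrix.mulVec, dotProduct, Fin.sum_univ_two, mul_comm]
  have hLinj : ∀ c : Fin 2 → K, L *ᵥ c = 0 → c = 0 := by
    intro c hc
    rw [hLv] at hc
    have h1 := congrArg (A *ᵥ ·) hc
    simp only [Matrix.mulVec_add, Matrix.mulVec_smul, hAv, hAw, smul_zero, zero_add,
      Matrix.mulVec_zero, smul_smul, smul_eq_zero, mul_eq_zero, hμ0, hv0, or_false] at h1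
    rw [h1, zero_smul, add_zero, smul_eq_zero] at hc
    ext i; fin_cases i
    · exact hc.resolve_right hv0
    · exact h1
  have hL1 : ∀ X : Matrix (Fin 2) (Fin 2) K, L * X = 0 → X = 0 := by
    intro X hX
    ext i j
    have h1 : X *ᵥ Pi.single j 1 = 0 := hLinj _ (by
      rw [Matrix.mulVec_mulVec, hX, Matrix.zero_mulVec])
    simpa using congrFun h1 i
  have hLcancel : ∀ X Y : Matrix (Fin 2) (Fin 2) K, L * X = L * Y → X = Y := fun X Y h =>
    sub_eq_zero.1 (hL1 _ (by rw [Matrix.mul_sub, h, sub_self]))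
  have hext : ∀ P : Matrix (Fin n) (Fin n) K, ∀ X : Matrix (Fin 2) (Fin 2) K,
      P *ᵥ v = L *ᵥ (X *ᵥ Pi.single 0 1) → P *ᵥ w = L *ᵥ (X *ᵥ Pi.single 1 1) → P * L = L * X := by
    intro P X h0 h1
    ext i j
    have e0 : L *ᵥ Pi.single 0 1 = v := by rw [hLv]; simp
    have e1 : L *ᵥ Pi.single 1 1 = w := by rw [hLv]; simp
    fin_cases j
    · have := congrFun h0 i
      rw [← e0, Matrix.mulVec_mulVec, Matrix.mulVec_mulVec] at this
      simpa using this
    · have := congrFun h1 i
      rw [← e1, Matrix.mulVec_mulVec, Matrix.mulVec_mulVec] at this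
      simpa using this
  let X₀ : Matrix (Fin 2) (Fin 2) K := !![1, μ; 0, 1]
  let Y₀ : Matrix (Fin 2) (Fin 2) K := !![1, 0; 1, 1]
  have hXx : ρ x * L = L * X₀ := by
    have hρ : ρ x = 1 + A := by rw [hA]; abel
    refine hext _ _ ?_ ?_
    · rw [hρ, Matrix.add_mulVec, Matrix.one_mulVec, hAv, hLv]; simp [X₀]
    · rw [hρ, Matrix.add_mulVec, Matrix.one_mulVec, hAw, hLv]; simp [X₀, add_comm]
  have hYy : ρ y * L = L * Y₀ := by
    have hρ : ρ y = 1 + B := by rw [hB]; abel
    refine hext _ _ ?_ ?_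
    · rw [hρ, Matrix.add_mulVec, Matrix.one_mulVec, ← hw, hLv]; simp [Y₀]
    · rw [hρ, Matrix.add_mulVec, Matrix.one_mulVec, hBw, hLv]; simp [Y₀]
  have hall : ∀ h : H, ∃ X : Matrix (Fin 2) (Fin 2) K, ρ h * L = L * X := by
    intro h
    have hh : h ∈ Subgroup.closure ({x, y} : Set H) := hgen ▸ Subgroup.mem_top h
    induction hh using Subgroup.closure_induction with
    | mem z hz =>
      rcases hz with rfl | hz
      · exact ⟨X₀, hXx⟩
      · rw [Set.mem_singleton_iff] at hz; subst hz; exact ⟨Y₀, hYy⟩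
    | one => exact ⟨1, by simp⟩
    | mul a b _ _ ha hb =>
      obtain ⟨X, hX⟩ := ha
      obtain ⟨Y, hY⟩ := hb
      exact ⟨X * Y, by rw [map_mul, Matrix.mul_assoc, hY, ← Matrix.mul_assoc, hX, Matrix.mul_assoc]⟩
    | inv a _ ha =>
      obtain ⟨X, hX⟩ := ha
      refine ⟨X ^ (orderOf a - 1), ?_⟩
      rw [show a⁻¹ = a ^ (orderOf a - 1) from (eq_inv_of_mul_eq_one_left (by
        rw [← pow_succ, Nat.sub_add_cancel (orderOf_pos a), pow_orderOf_eq_one])).symm]
      induction orderOf a - 1 with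
      | zero => simp
      | succ k ih => rw [pow_succ, map_mul, Matrix.mul_assoc, hX, ← Matrix.mul_assoc, ih,
          Matrix.mul_assoc, ← pow_succ]
  choose σ hσ using hall
  let σh : H →* Matrix (Fin 2) (Fin 2) K :=
    { toFun := σ
      map_one' := hLcancel _ _ (by rw [← hσ]; simp)
      map_mul' := fun a b => hLcancel _ _ (by
        rw [← hσ, map_mul, Matrix.mul_assoc, hσ, ← Matrix.mul_assoc, hσ, Matrix.mul_assoc]) }
  let τ : H →* GL (Fin 2) K := σh.toHomUnits
  have hτ : ∀ h : H, ((τ h : GL (Fin 2) K) : Matrix (Fin 2) (Fin 2) K) = σ h := fun h => rfl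
  haveI : Finite τ.range := Finite.of_surjective _ τ.rangeRestrict_surjective
  have hodd' : Odd (Nat.card τ.range) := hodd.of_dvd_nat (Subgroup.card_range_dvd τ)
  have hσx : σ x = X₀ := hLcancel _ _ ((hσ x).symm.trans hXx)
  have hσy : σ y = Y₀ := hLcancel _ _ ((hσ y).symm.trans hYy)
  have hdvd : p ∣ Nat.card τ.range := by
    have hord : orderOf (τ x) = p := by
      refine orderOf_eq_prime ?_ ?_
      · apply Units.ext
        rw [Units.val_pow_eq_pow_val, hτ, hσx, Units.val_one]
        have hsq : (X₀ - 1) ^ 2 = 0 := by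
          ext i j; fin_cases i <;> fin_cases j <;>
            simp [X₀, sq, Matrix.mul_apply, Fin.sum_univ_two]
        have := add_pow_char_of_commute (p := p) (Commute.one_right (X₀ - 1))
        rwa [sub_add_cancel, one_pow, pow_eq_zero_of_le hp.out.two_le hsq, zero_add] at this
      · intro h
        have h1 := congrArg (fun u : GL (Fin 2) K => (u : Matrix (Fin 2) (Fin 2) K) 0 1) h
        simp only [hτ, hσx, Units.val_one] at h1
        exact hμ0 (by simpa [X₀] using h1)
    rw [← hord, ← Subgroup.orderOf_mk (τ x) (MonoidHom.mem_range.2 ⟨x, rfl⟩)]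
    exact orderOf_dvd_natCard _
  obtain ⟨u, hu0, hu⟩ := GL2.exists_invariant_line hp2 τ.range hodd' hdvd
  obtain ⟨c, hc⟩ := Submodule.mem_span_singleton.1 (hu _ (MonoidHom.mem_range.2 ⟨x, rfl⟩))
  obtain ⟨d, hd⟩ := Submodule.mem_span_singleton.1 (hu _ (MonoidHom.mem_range.2 ⟨y, rfl⟩))
  rw [hτ, hσx] at hc
  rw [hτ, hσy] at hd
  have c0 := congrFun hc 0
  have c1 := congrFun hc 1
  have d0 := congrFun hd 0
  have d1 := congrFun hd 1
  simp [X₀, Y₀, Matrix.mulVec, dotProduct, Fin.sum_univ_two] at c0 c1 d0 d1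
  refine hu0 (funext fun i => ?_)
  have hu1 : u 1 = 0 := by
    by_contra h1
    have hc1 : c = 1 := (mul_eq_right₀ h1).1 c1
    rw [hc1, one_mul] at c0
    exact h1 ((mul_eq_zero.1 (by linear_combination -c0 : μ * u 1 = 0)).resolve_left hμ0)
  fin_cases i
  · rw [hu1] at d1
    simpa using d1.symm
  · exact hu1

omit hp in
/-- Every element is one plus a nilpotent. -/
theorem exists_pow_sub_one_eq_zero (ρ : H →* Matrix (Fin n) (Fin n) K) {x y : H}
    (hgen : Subgroup.closure ({x, y} : Set H) = ⊤)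
    (hx : (ρ x - 1) * (ρ x - 1) = 0) (hy : (ρ y - 1) * (ρ y - 1) = 0) {m : ℕ}
    (hm : ((ρ x - 1) * (ρ y - 1)) ^ m = 0) (h : H) : (ρ h - 1) ^ (2 * m + 2) = 0 := by
  set A := ρ x - 1 with hA
  set B := ρ y - 1 with hB
  let T : ℕ → Submodule K (Matrix (Fin n) (Fin n) K) := fun j => Submodule.span K
    {z | ∃ l : List (Matrix (Fin n) (Fin n) K), (∀ w ∈ l, w = A ∨ w = B) ∧ j ≤ l.length ∧ l.prod = z}
  have hTmul : ∀ i j, ∀ a ∈ T i, ∀ b ∈ T j, a * b ∈ T (i + j) := by
    intro i j a ha b hb
    have h1 := Submodule.mul_mem_mul ha hb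
    simp only [T, Submodule.span_mul_span] at h1
    refine Submodule.span_mono ?_ h1
    rintro _ ⟨_, ⟨l, hl, hli, rfl⟩, _, ⟨l', hl', hlj, rfl⟩, rfl⟩
    exact ⟨l ++ l', fun w hw => (List.mem_append.1 hw).elim (hl w) (hl' w),
      by rw [List.length_append]; omega, List.prod_append⟩
  have hmem : ρ h - 1 ∈ T 1 := by
    have hh : h ∈ Subgroup.closure ({x, y} : Set H) := hgen ▸ Subgroup.mem_top h
    have hstep : ∀ a b : H, ρ a - 1 ∈ T 1 → ρ b - 1 ∈ T 1 → ρ (a * b) - 1 ∈ T 1 := by
      intro a b ha hb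
      have e : ρ (a * b) - 1 = (ρ a - 1) * (ρ b - 1) + (ρ a - 1) + (ρ b - 1) := by
        rw [map_mul]; noncomm_ring
      rw [e]
      refine add_mem (add_mem (Submodule.span_mono ?_ (hTmul 1 1 _ ha _ hb)) ha) hb
      rintro _ ⟨l, hl, hle, rfl⟩
      exact ⟨l, hl, by omega, rfl⟩
    induction hh using Subgroup.closure_induction with
    | mem z hz =>
      rcases hz with rfl | hz
      · exact Submodule.subset_span ⟨[A], by simp, by simp, by simp [hA]⟩
      · rw [Set.mem_singleton_iff] at hz; subst hz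
        exact Submodule.subset_span ⟨[B], by simp, by simp, by simp [hB]⟩
    | one => simp
    | mul a b _ _ ha hb => exact hstep a b ha hb
    | inv a _ ha =>
      rw [show a⁻¹ = a ^ (orderOf a - 1) from (eq_inv_of_mul_eq_one_left (by
        rw [← pow_succ, Nat.sub_add_cancel (orderOf_pos a), pow_orderOf_eq_one])).symm]
      induction orderOf a - 1 with
      | zero => simp
      | succ k ih => rw [pow_succ]; exact hstep _ _ ih ha
  have hpow : ∀ k, (ρ h - 1) ^ (k + 1) ∈ T (k + 1) := by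
    intro k
    induction k with
    | zero => simpa using hmem
    | succ k ih => rw [pow_succ]; exact hTmul _ _ _ ih _ hmem
  have hzero : T (2 * m + 2) = ⊥ := by
    rw [Submodule.span_eq_bot]
    rintro _ ⟨l, hl, hle, rfl⟩
    exact list_prod_eq_zero hx hy hm l hl hle
  have h2 := hpow (2 * m + 1)
  rwa [show 2 * m + 1 + 1 = 2 * m + 2 from rfl, hzero, Submodule.mem_bot] at h2

/-- **BG Appendix A**: two quadratic elements generate a unipotent group when its order is odd. -/
theorem exists_pow_char_eq_one [IsAlgClosed K] [CharP K p] (hp2 : p ≠ 2)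
    (hodd : Odd (Nat.card H)) (ρ : H →* Matrix (Fin n) (Fin n) K) {x y : H}
    (hgen : Subgroup.closure ({x, y} : Set H) = ⊤)
    (hx : (ρ x - 1) * (ρ x - 1) = 0) (hy : (ρ y - 1) * (ρ y - 1) = 0) (h : H) :
    ∃ j, ρ h ^ p ^ j = 1 := by
  have hn := exists_pow_sub_one_eq_zero ρ hgen hx hy (mul_isNilpotent hp2 hodd ρ hgen hx hy) h
  obtain ⟨j, hj⟩ : ∃ j, 2 * n + 2 ≤ p ^ j :=
    ⟨2 * n + 2, (Nat.lt_pow_self hp.out.one_lt).le⟩
  refine ⟨j, sub_eq_zero.1 ?_⟩
  rcases isEmpty_or_nonempty (Fin n) with he | hne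
  · exact Subsingleton.elim _ _
  · rw [show ρ h ^ p ^ j - 1 = (ρ h - 1) ^ p ^ j by
      rw [sub_pow_char_pow_of_commute _ _ (Commute.one_right (ρ h)), one_pow]]
    exact pow_eq_zero_of_le hj hn

end CfsgLib.OddOrder.Quad
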