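import Cfsg.Prelude.Def_OddOrderLocal
import Cfsg.Prelude.Def_Local
import Cfsg.Agent.OddOrder.AppA.Nil
import Cfsg.Agent.OddOrder.BG1Stab
import Cfsg.Agent.PLocal.Constraint
import Cfsg.Agent.Small.BaerSuzuki
import Mathlib.FieldTheory.IsAlgClosed.AlgebraicClosure
import Mathlib.Algebra.Module.ZMod
import Mathlib.LinearAlgebra.Matrix.ToLin

/-!
# p-stability of groups of odd order (Bender–Glauberman, Appendix A)

* `mem_centralizer_of_quadratic_pair`: in a subgroup of odd order generated by two elements acting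
  quadratically on a `p`-group, every `p'`-element centralises it.
* `quadratic_mem_pCore`: quadratic elements map into `O_p(N(P)/C(P))`.
-/

set_option autoImplicit false
open scoped commutatorElement IsMulCommutative

namespace CfsgLib.OddOrder.Quad

open Cfsg Subgroup Matrix

section Module

variable {p : ℕ} [Fact p.Prime]

/-- The case of an elementary abelian normal subgroup. -/
theorem commute_of_quadratic_pair_elementary {X : Type*} [Group X] [Finite X] (hp2 : p ≠ 2)
    {Z : Subgroup X} [Z.Normal] [IsMulCommutative Z] (hZp : ∀ z ∈ Z, z ^ p = 1) {x y : X}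
    (hodd : Odd (Nat.card (closure ({x, y} : Set X))))
    (hx : ∀ z ∈ Z, Commute ⁅z, x⁆ x) (hy : ∀ z ∈ Z, Commute ⁅z, y⁆ y)
    {h : X} (hh : h ∈ closure ({x, y} : Set X)) (hcop : (orderOf h).Coprime p) :
    ∀ z ∈ Z, Commute h z := by
  classical
  set H := closure ({x, y} : Set X) with hH
  -- coordinates
  obtain ⟨n, ⟨φ⟩⟩ : ∃ n, Nonempty (Additive Z ≃+ (Fin n → ZMod p)) := by
    letI inst : Module (ZMod p) (Additive Z) := AddCommGroup.zmodModule fun v => by
      apply Additive.toMul.injective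
      rw [toMul_nsmul, toMul_zero]
      exact Subtype.ext (by simpa using hZp _ v.toMul.2)
    haveI : Finite (Additive Z) := inferInstanceAs (Finite Z)
    have hf : @Module.Finite (ZMod p) (Additive Z) _ _ inst :=
      @Module.Finite.of_finite _ _ _ _ inst _
    let b := @Module.finBasis (ZMod p) (Additive Z) _ _ inst
      (@Module.Free.of_divisionRing (ZMod p) (Additive Z) _ _ inst) _ hf
    exact ⟨_, ⟨b.equivFun.toAddEquiv⟩⟩
  let K := AlgebraicClosure (ZMod p)
  haveI : CharP K p := charP_of_injective_algebraMap (algebraMap (ZMod p) K).injective p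
  let conjA : X → (Additive Z →+ Additive Z) := fun g =>
    MonoidHom.toAdditive (MulAut.conjNormal g).toMonoidHom
  have hconjA : ∀ (g : X) (v : Additive Z),
      (((conjA g) v).toMul : X) = g * (v.toMul : X) * g⁻¹ := fun g v => rfl
  let lin : X → ((Fin n → ZMod p) →ₗ[ZMod p] (Fin n → ZMod p)) := fun g =>
    AddMonoidHom.toZModLinearMap p ((φ.toAddMonoidHom.comp (conjA g)).comp φ.symm.toAddMonoidHom)
  have hlin : ∀ (g : X) (w : Fin n → ZMod p), lin g w = φ (conjA g (φ.symm w)) := fun g w => rfl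
  have hone : lin 1 = LinearMap.id := LinearMap.ext fun w => by
    rw [hlin, LinearMap.id_apply, show conjA 1 (φ.symm w) = φ.symm w from
      Additive.toMul.injective (Subtype.ext (by rw [hconjA]; group)), φ.apply_symm_apply]
  have hmul : ∀ a b : X, lin (a * b) = (lin a).comp (lin b) := fun a b => LinearMap.ext fun w => by
    rw [hlin, LinearMap.comp_apply, hlin, hlin, φ.symm_apply_apply]
    refine congrArg φ (Additive.toMul.injective (Subtype.ext ?_))
    rw [hconjA, hconjA, hconjA]
    group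
  let e : X →* Matrix (Fin n) (Fin n) (ZMod p) :=
    { toFun := fun g => LinearMap.toMatrix' (lin g)
      map_one' := by rw [hone, LinearMap.toMatrix'_id]
      map_mul' := fun a b => by rw [hmul, LinearMap.toMatrix'_comp] }
  have he : ∀ g w, e g *ᵥ w = lin g w := fun g w => LinearMap.toMatrix'_mulVec (lin g) w
  let m : Matrix (Fin n) (Fin n) (ZMod p) →+* Matrix (Fin n) (Fin n) K :=
    (algebraMap (ZMod p) K).mapMatrix
  have hm : Function.Injective m := Matrix.map_injective (algebraMap (ZMod p) K).injective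
  let ρ : H →* Matrix (Fin n) (Fin n) K := m.toMonoidHom.comp (e.comp H.subtype)
  have hquad : ∀ g : X, (∀ z ∈ Z, Commute ⁅z, g⁆ g) → (m (e g) - 1) * (m (e g) - 1) = 0 := by
    intro g hg
    rw [← map_one m, ← map_sub, ← map_mul, ← map_zero m]
    congr 1
    apply Matrix.toLin'.injective
    refine LinearMap.ext fun w => ?_
    rw [map_zero, LinearMap.zero_apply, Matrix.toLin'_apply, ← Matrix.mulVec_mulVec,
      Matrix.sub_mulVec, Matrix.one_mulVec, he]
    have key : lin g (lin g w - w) = lin g w - w := by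
      rw [hlin, hlin]
      conv_rhs => rw [← φ.apply_symm_apply w, ← map_sub]
      refine congrArg φ ?_
      rw [map_sub, φ.symm_apply_apply]
      apply Additive.toMul.injective
      apply Subtype.ext
      rw [hconjA]
      simp only [φ.symm_apply_apply, toMul_sub, div_eq_mul_inv, coe_mul, coe_inv, hconjA]
      set z : X := ((φ.symm w).toMul : X)
      have hc : Commute (g * z * g⁻¹ * z⁻¹) g := by
        have h1 := (hg z (φ.symm w).toMul.2).inv_left
        rw [commutatorElement_def] at h1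
        have e : (z * g * z⁻¹ * g⁻¹)⁻¹ = g * z * g⁻¹ * z⁻¹ := by group
        rwa [e] at h1
      rw [← hc.eq, mul_inv_cancel_right]
    rw [Matrix.sub_mulVec, he, Matrix.one_mulVec, key, sub_self]
  have hgen : closure ({⟨x, subset_closure (Or.inl rfl)⟩, ⟨y, subset_closure (Or.inr rfl)⟩} : Set H)
      = ⊤ := by
    apply Subgroup.map_injective H.subtype_injective
    rw [MonoidHom.map_closure, ← MonoidHom.range_eq_map, range_subtype]
    simp [hH, Set.image_insert_eq, Set.image_singleton]
  obtain ⟨j, hj⟩ := exists_pow_char_eq_one (p := p) hp2 hodd ρ hgen (hquad x hx) (hquad y hy)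
    (⟨h, hh⟩ : H)
  intro z hz
  have h1 : ρ ⟨h, hh⟩ = 1 := by
    have hd : (orderOf (ρ ⟨h, hh⟩)).Coprime (p ^ j) :=
      ((hcop.coprime_dvd_left ((orderOf_map_dvd ρ _).trans
        (by rw [Subgroup.orderOf_mk]))).pow_right j)
    exact orderOf_eq_one_iff.1 (Nat.eq_one_of_dvd_coprimes hd dvd_rfl (orderOf_dvd_of_pow_eq_one hj))
  have h2 : e h = 1 := hm (by rw [map_one]; exact h1)
  have h3 : lin h (φ (Additive.ofMul ⟨z, hz⟩)) = φ (Additive.ofMul ⟨z, hz⟩) := by
    rw [← he, h2, Matrix.one_mulVec]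
  rw [hlin, φ.symm_apply_apply] at h3
  have h4 := congrArg (fun v : Additive Z => (v.toMul : X)) (φ.injective h3)
  simp only [hconjA, toMul_ofMul] at h4
  exact mul_inv_eq_iff_eq_mul.1 h4

end Module

/-- The elements of order dividing `p` of the centre of a normal subgroup. -/
def omegaCenter {X : Type*} [Group X] (p : ℕ) (P : Subgroup X) : Subgroup X where
  carrier := {z | z ∈ P ⊓ centralizer (P : Set X) ∧ z ^ p = 1}
  one_mem' := ⟨one_mem _, one_pow p⟩
  mul_mem' := fun {a b} ha hb => ⟨mul_mem ha.1 hb.1, by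
    have hc : Commute a b := mem_centralizer_iff.1 hb.1.2 a ha.1.1
    rw [hc.mul_pow, ha.2, hb.2, one_mul]⟩
  inv_mem' := fun {a} ha => ⟨inv_mem ha.1, by rw [inv_pow, ha.2, inv_one]⟩

theorem omegaCenter_normal {X : Type*} [Group X] (p : ℕ) (P : Subgroup X) [P.Normal] :
    (omegaCenter p P).Normal :=
  ⟨fun z hz g => ⟨(inferInstance : (P ⊓ centralizer (P : Set X)).Normal).conj_mem z hz.1 g, by
    rw [conj_pow, hz.2]; simp⟩⟩

theorem omegaCenter_isMulCommutative {X : Type*} [Group X] (p : ℕ) (P : Subgroup X) :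
    IsMulCommutative (omegaCenter p P) :=
  ⟨⟨fun a b => Subtype.ext (mem_centralizer_iff.1 b.2.1.2 a a.2.1.1)⟩⟩

universe u

/-- Induction on the order of the normal `p`-subgroup. -/
theorem commute_of_quadratic_pair_aux {p : ℕ} [Fact p.Prime] (hp2 : p ≠ 2) (n : ℕ) :
    ∀ (X : Type u) [Group X] [Finite X] (P : Subgroup X) [P.Normal], IsPGroup p P →
      Nat.card P = n → ∀ x y : X, Odd (Nat.card (closure ({x, y} : Set X))) →
      (∀ w ∈ P, Commute ⁅w, x⁆ x) → (∀ w ∈ P, Commute ⁅w, y⁆ y) →
      ∀ h ∈ closure ({x, y} : Set X), (orderOf h).Coprime p → ∀ w ∈ P, Commute h w := by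
  induction n using Nat.strongRecOn with | ind n ih => ?_
  intro X _ _ P _ hP hn x y hodd hx hy h hh hcop
  rcases eq_or_ne P ⊥ with hbot | hne
  · intro w hw; rw [hbot, mem_bot] at hw; subst hw; exact Commute.one_right h
  set Z := omegaCenter p P with hZ
  haveI := omegaCenter_normal p P
  haveI := omegaCenter_isMulCommutative p P
  have hZP : Z ≤ P := fun z hz => hz.1.1
  have hZfix := commute_of_quadratic_pair_elementary hp2 (Z := Z) (fun z hz => hz.2) hodd
    (fun z hz => hx z (hZP hz)) (fun z hz => hy z (hZP hz)) hh hcop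
  have hZne : Z ≠ ⊥ := by
    haveI : Nontrivial P := (nontrivial_iff_ne_bot P).2 hne
    haveI := hP.center_nontrivial
    obtain ⟨c, hc, hc1⟩ : ∃ c : P, c ∈ center P ∧ orderOf c = p := by
      obtain ⟨k, hk⟩ := IsPGroup.iff_card.1 (hP.to_subgroup (center P))
      have hk0 : k ≠ 0 := by
        rintro rfl
        rw [pow_zero, card_eq_one] at hk
        exact (nontrivial_iff_ne_bot _).1 ‹Nontrivial (center P)› hk
      obtain ⟨c, hc⟩ := exists_prime_orderOf_dvd_card' p (G := center P) (hk ▸ dvd_pow_self p hk0)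
      exact ⟨c, c.2, by rw [← hc, Subgroup.orderOf_coe]⟩
    intro hbot
    have hmem : (c : X) ∈ Z := ⟨⟨c.2, fun w hw => congrArg Subtype.val (mem_center_iff.1 hc ⟨w, hw⟩)⟩,
      congrArg Subtype.val (hc1 ▸ pow_orderOf_eq_one c : c ^ p = 1)⟩
    rw [hbot, mem_bot, OneMemClass.coe_eq_one] at hmem
    rw [hmem, orderOf_one] at hc1
    exact (Fact.out : p.Prime).one_lt.ne hc1
  set π := QuotientGroup.mk' Z
  haveI : (P.map π).Normal := Subgroup.Normal.map inferInstance π (QuotientGroup.mk'_surjective Z)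
  have hlt : Nat.card (P.map π) < n := by
    rw [← hn]
    have hker : (π.ker.subgroupOf P).index = Nat.card (P.map π) := by
      have := relIndex_ker (K := P) π
      exact this
    rw [QuotientGroup.ker_mk'] at hker
    rw [← hker]
    have hc := (Z.subgroupOf P).card_mul_index
    rw [Nat.card_congr (subgroupOfEquivOfLe hZP).toEquiv] at hc
    have hZ2 : 2 ≤ Nat.card Z := by
      haveI : Nontrivial Z := (nontrivial_iff_ne_bot Z).2 hZne
      exact Finite.one_lt_card
    rw [← hc]
    exact lt_mul_of_one_lt_left (Nat.pos_of_ne_zero index_ne_zero_of_finite) hZ2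
  have hq := ih _ hlt (X ⧸ Z) (P.map π) (hP.map π) rfl (π x) (π y)
    (hodd.of_dvd_nat (by
      rw [← Set.image_pair, ← MonoidHom.map_closure]; exact card_map_dvd _ π))
    (by rintro _ ⟨w, hw, rfl⟩; rw [← map_commutatorElement]; exact (hx w hw).map π)
    (by rintro _ ⟨w, hw, rfl⟩; rw [← map_commutatorElement]; exact (hy w hw).map π)
    (π h) (by rw [← Set.image_pair, ← MonoidHom.map_closure]; exact mem_map_of_mem π hh)
    (hcop.coprime_dvd_left (orderOf_map_dvd π h))
  intro w hw
  have hc : ⁅h, w⁆ ∈ Z := by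
    rw [← QuotientGroup.eq_one_iff]
    show π ⁅h, w⁆ = 1
    rw [map_commutatorElement, commutatorElement_eq_one_iff_commute]
    exact hq (π w) (mem_map_of_mem π hw)
  refine Stab.commute_of_stab_mem (hZfix _ hc) hc ?_
  obtain ⟨k, hk⟩ := IsPGroup.iff_card.1 (hP.to_le hZP)
  rw [hk]
  exact hcop.pow_right k

/-- **BG Appendix A**: `p'`-elements of an odd order subgroup generated by two elements acting
quadratically on a `p`-group centralise it. -/
theorem mem_centralizer_of_quadratic_pair {G : Type u} [Group G] [Finite G] {p : ℕ} [Fact p.Prime]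
    (hp2 : p ≠ 2) {P : Subgroup G} (hP : IsPGroup p P) {x y : G}
    (hx : x ∈ normalizer (P : Set G)) (hy : y ∈ normalizer (P : Set G))
    (hodd : Odd (Nat.card (closure ({x, y} : Set G))))
    (hqx : ∀ w ∈ P, Commute ⁅w, x⁆ x) (hqy : ∀ w ∈ P, Commute ⁅w, y⁆ y)
    {h : G} (hh : h ∈ closure ({x, y} : Set G)) (hcop : (orderOf h).Coprime p) :
    h ∈ centralizer (P : Set G) := by
  set N := normalizer (P : Set G) with hN
  have hle : closure ({x, y} : Set G) ≤ N :=
    (closure_le _).2 (Set.insert_subset hx (Set.singleton_subset_iff.2 hy))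
  haveI : (P.subgroupOf N).Normal := (normal_subgroupOf_iff_le_normalizer le_normalizer).2 le_rfl
  have hmap : closure ({x, y} : Set G)
      = (closure ({⟨x, hx⟩, ⟨y, hy⟩} : Set N)).map N.subtype := by
    rw [MonoidHom.map_closure]; simp [Set.image_pair]
  have h1 := commute_of_quadratic_pair_aux hp2 _ N (P.subgroupOf N) (hP.comap_subtype) rfl
    ⟨x, hx⟩ ⟨y, hy⟩ (by
      rw [hmap, card_map_of_injective N.subtype_injective] at hodd; exact hodd)
    (fun w hw => Subtype.ext (hqx w hw)) (fun w hw => Subtype.ext (hqy w hw))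
    ⟨h, hle hh⟩ (by
      rw [hmap] at hh
      obtain ⟨z, hz, hzh⟩ := hh
      convert SetLike.mem_coe.1 hz using 1
      exact Subtype.ext hzh.symm)
    (by rwa [Subgroup.orderOf_mk])
  rw [mem_centralizer_iff]
  intro w hw
  exact (congrArg Subtype.val (h1 ⟨w, le_normalizer hw⟩ hw).eq).symm

/-- **p-stability in odd order**: a quadratically acting element of `N(P)` maps into
`O_p(N(P)/C(P))`. -/
theorem quadratic_mem_pCore {G : Type u} [Group G] [Finite G] {p : ℕ} [Fact p.Prime]
    (hp2 : p ≠ 2) {P : Subgroup G} (hP : IsPGroup p P)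
    (hodd : Odd (Nat.card (normalizer (P : Set G)))) {a : G}
    (ha : a ∈ normalizer (P : Set G)) (hq : ∀ w ∈ P, Commute ⁅w, a⁆ a) :
    QuotientGroup.mk' ((centralizer (P : Set G)).subgroupOf (normalizer (P : Set G))) ⟨a, ha⟩
      ∈ pCore p _ := by
  set N := normalizer (P : Set G) with hN
  set C := (centralizer (P : Set G)).subgroupOf N with hC
  set π := QuotientGroup.mk' C with hπ
  obtain ⟨M, hMn, hMp, hM⟩ := CfsgLib.Small.baerSuzuki_elem (p := p) (π ⟨a, ha⟩) (by
    intro g
    obtain ⟨g, rfl⟩ := QuotientGroup.mk'_surjective C g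
    rw [← map_inv, ← map_mul, ← map_mul, ← Set.image_pair, ← MonoidHom.map_closure]
    rintro ⟨_, h, hh, rfl⟩
    set o := orderOf h
    have ho : 0 < o := orderOf_pos h
    refine ⟨o.factorization p, Subtype.ext ?_⟩
    rw [SubmonoidClass.coe_pow, coe_one, ← map_pow]
    refine (QuotientGroup.eq_one_iff _).2 ?_
    rw [hC, mem_subgroupOf]
    have hmap : (closure ({(⟨a, ha⟩ : N), g * ⟨a, ha⟩ * g⁻¹} : Set N)).map N.subtype
        = closure ({a, (g : G) * a * (g : G)⁻¹} : Set G) := by
      rw [MonoidHom.map_closure]; simp [Set.image_pair]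
    refine mem_centralizer_of_quadratic_pair hp2 hP (x := a) (y := (g : G) * a * (g : G)⁻¹) ha
      (mul_mem (mul_mem g.2 ha) (inv_mem g.2)) ?_ hq ?_ ?_ ?_
    · rw [← hmap, card_map_of_injective N.subtype_injective]
      exact hodd.of_dvd_nat (Subgroup.card_subgroup_dvd_card _)
    · intro w hw
      have hw' : (g : G)⁻¹ * w * g ∈ P := (mem_normalizer_iff''.1 g.2 w).1 hw
      have h1 := (hq _ hw').map (MulAut.conj (g : G)).toMonoidHom
      rw [map_commutatorElement] at h1
      simpa [mul_assoc] using h1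
    · rw [← hmap]
      exact mem_map_of_mem N.subtype (pow_mem hh _)
    · rw [SubmonoidClass.coe_pow, orderOf_pow_of_dvd (pow_ne_zero _ (Fact.out : p.Prime).ne_zero)
        (by rw [Subgroup.orderOf_coe]; exact Nat.ordProj_dvd o p), Subgroup.orderOf_coe,
        Nat.coprime_comm, (Fact.out : p.Prime).coprime_iff_not_dvd]
      exact Nat.not_dvd_ordCompl Fact.out ho.ne')
  exact (CfsgLib.PLocal.le_pCore (hN := hMn) hMp) hM

/-- A subgroup `A ≤ N(P)` with `[P, A, A] = 1` maps into `O_p(N(P)/C(P))`. -/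
theorem map_le_pCore_of_quadratic {G : Type u} [Group G] [Finite G] {p : ℕ} [Fact p.Prime]
    (hp2 : p ≠ 2) {P A : Subgroup G} (hP : IsPGroup p P)
    (hodd : Odd (Nat.card (normalizer (P : Set G))))
    (hA : A ≤ normalizer (P : Set G)) (hq : ⁅⁅P, A⁆, A⁆ = ⊥) :
    (A.subgroupOf (normalizer (P : Set G))).map
        (QuotientGroup.mk' ((centralizer (P : Set G)).subgroupOf (normalizer (P : Set G))))
      ≤ pCore p _ := by
  rintro _ ⟨⟨a, ha⟩, haA, rfl⟩
  refine quadratic_mem_pCore hp2 hP hodd ha fun w hw => ?_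
  exact (mem_centralizer_iff.1
    (commutator_eq_bot_iff_le_centralizer.1 hq (commutator_mem_commutator hw haA)) a haA).symm

/-- With `O_{p'}(G) = 1`-type constraint: an element whose image modulo `C(P)` is in the `p`-core
lies in `O_p(G)` when `C(P)` is a `p`-group. -/
theorem mem_pCore_of_map_mem {G : Type u} [Group G] [Finite G] {p : ℕ} [Fact p.Prime]
    {C : Subgroup G} [C.Normal] (hC : IsPGroup p C) {a : G}
    (ha : QuotientGroup.mk' C a ∈ pCore p (G ⧸ C)) : a ∈ pCore p G := by
  rw [← CfsgLib.PLocal.comap_pCore_quotient C hC]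
  exact ha

/-- Quadratic action on a normal `p`-subgroup, in terms of `G ⧸ C(P)`. -/
theorem quadratic_mem_pCore_of_normal {G : Type u} [Group G] [Finite G] {p : ℕ} [Fact p.Prime]
    (hp2 : p ≠ 2) {P : Subgroup G} [hPn : P.Normal] (hP : IsPGroup p P)
    (hodd : Odd (Nat.card G)) {a : G} (hq : ∀ w ∈ P, Commute ⁅w, a⁆ a) :
    QuotientGroup.mk' (centralizer (P : Set G)) a ∈ pCore p (G ⧸ centralizer (P : Set G)) := by
  set N := normalizer (P : Set G) with hN
  have htop : ∀ g : G, g ∈ N := fun g => by rw [hN, normalizer_eq_top]; exact mem_top g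
  let f : N ⧸ ((centralizer (P : Set G)).subgroupOf N) →* G ⧸ centralizer (P : Set G) :=
    QuotientGroup.map _ _ N.subtype le_rfl
  have hf : Function.Surjective f := fun q => by
    obtain ⟨g, rfl⟩ := QuotientGroup.mk'_surjective _ q
    exact ⟨QuotientGroup.mk' _ ⟨g, htop g⟩, rfl⟩
  exact CfsgLib.PLocal.map_pCore_le_of_surjective hf
    ⟨_, quadratic_mem_pCore hp2 hP (hodd.of_dvd_nat (card_subgroup_dvd_card _)) (htop a) hq, rfl⟩

end CfsgLib.OddOrder.Quad
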